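import Cfsg.Agent.LAE60.AmalgamRes

/-!
Amalgams with residues `S₃` in which exactly one group centralizes `Ω₁(Z(T))`: hypotheses and
elementary facts on vertices and edges.
-/

set_option autoImplicit false
set_option linter.unusedVariables false
set_option linter.style.haveILetI false

open Subgroup Cfsg.Agent.Amalgam Cfsg.Agent.FusionAlperin
open scoped commutatorElement

namespace Cfsg.Agent.Goldschmidt

open Cfsg.Agent.LAE60 (exists_adj vertexZ_ne_bot conj_mem_of_mem_normalizer mem_normalizer_of_forall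
  centralizer_le_normalizer' mem_centralizer_comm le_normalizer_inf commute_of_commutator_mem)
open Cfsg.Agent.Fusion (cj mem_cj conj_mem_cj cj_le_iff le_cj_iff cj_inv_cj cj_eq_of_mem cj_inf
  cj_eq_self_of_mem cj_mono)

variable {X : Type*} [Group X]

/-- `Ω₁(Z(M₁ ⊓ M₂))`. -/
abbrev Z0 (M₁ M₂ : Subgroup X) : Subgroup X :=
  Cfsg.omegaOne 2 ((M₁ ⊓ M₂) ⊓ centralizer ((M₁ ⊓ M₂ : Subgroup X) : Set X))

/-- The hypotheses: residues of order `6`, with `Ω₁(Z(M₁ ⊓ M₂))` central in `M₂` but not in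
`M₁`. -/
structure Hyp (M₁ M₂ : Subgroup X) : Prop where
  pair : Cfsg.IsCharPAmalgamPair 2 M₁ M₂
  isP : IsPGroup 2 ↥(M₁ ⊓ M₂)
  idx₁ : Nat.card M₁ = 6 * Nat.card (Cfsg.pCoreOf 2 M₁)
  idx₂ : Nat.card M₂ = 6 * Nat.card (Cfsg.pCoreOf 2 M₂)
  nc₁ : ¬ M₁ ≤ centralizer (Z0 M₁ M₂ : Set X)
  c₂ : M₂ ≤ centralizer (Z0 M₁ M₂ : Set X)

variable {M₁ M₂ : Subgroup X}

local notation "Γ" => Cfsg.cosetGraph M₁ M₂
local notation "St" => MulAction.stabilizer X
local notation "Qv" => Cfsg.vertexQ 2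
local notation "Te" => Cfsg.edgeStabilizer

/-! ### Conjugation -/

theorem pCoreOf_cj (g : X) (K : Subgroup X) :
    Cfsg.pCoreOf 2 (cj g K) = cj g (Cfsg.pCoreOf 2 K) := by
  refine le_antisymm ?_ (map_pCoreOf_le (MulEquiv.injective _) K)
  rw [le_cj_iff]
  refine (map_pCoreOf_le (MulEquiv.injective _) (cj g K)).trans_eq ?_
  exact congrArg (Cfsg.pCoreOf 2) (cj_inv_cj g K)

theorem cj_stab (g : X) (x : Cfsg.CosetVertex M₁ M₂) : cj g (St x) = St (g • x) :=
  (MulAction.stabilizer_smul_eq_stabilizer_map_conj g x).symm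

theorem cj_Q (g : X) (x : Cfsg.CosetVertex M₁ M₂) : cj g (Qv x) = Qv (g • x) := by
  show cj g (Cfsg.pCoreOf 2 (St x)) = Cfsg.pCoreOf 2 (St (g • x))
  rw [← cj_stab, pCoreOf_cj]

theorem cj_edge (g : X) (x y : Cfsg.CosetVertex M₁ M₂) : cj g (Te x y) = Te (g • x) (g • y) := by
  show cj g (St x ⊓ St y) = St (g • x) ⊓ St (g • y)
  rw [cj_inf, cj_stab, cj_stab]

/-! ### Stabilizers -/

theorem fin (h : Hyp M₁ M₂) (x : Cfsg.CosetVertex M₁ M₂) : Finite (St x) :=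
  finite_stabilizer h.pair x

theorem isPGroup_edge (h : Hyp M₁ M₂) {x y : Cfsg.CosetVertex M₁ M₂} (hxy : (Γ).Adj x y) :
    IsPGroup 2 ↥(Te x y) := by
  obtain ⟨a, ⟨rfl, rfl⟩ | ⟨rfl, rfl⟩⟩ := adj_cases hxy
  · rw [edgeStabilizer_mk]; exact h.isP.map _
  · rw [Amalgam.edgeStabilizer_comm, edgeStabilizer_mk]; exact h.isP.map _

theorem sylIn_edgeStab (h : Hyp M₁ M₂) {x y : Cfsg.CosetVertex M₁ M₂} (hxy : (Γ).Adj x y) :
    SylIn 2 (Te x y) (St x) := by
  obtain ⟨P, hP⟩ := exists_sylIn_edge (p := 2) (δ := x) (μ := y)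
  rw [le_antisymm (hP.le_of_ge le_rfl (isPGroup_edge h hxy) hP.le) hP.le]
  exact (sylIn_edge h.pair hxy hP).1

theorem card_stab (h : Hyp M₁ M₂) (x : Cfsg.CosetVertex M₁ M₂) :
    Nat.card (St x) = 6 * Nat.card (Qv x) := by
  show Nat.card (St x) = 6 * Nat.card (Cfsg.pCoreOf 2 (St x))
  obtain ⟨a, rfl⟩ | ⟨a, rfl⟩ := vertex_cases x
  · rw [stabilizer_inl, pCoreOf_cj, card_map_of_injective (MulEquiv.injective _),
      card_map_of_injective (MulEquiv.injective _)]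
    exact h.idx₁
  · rw [stabilizer_inr, pCoreOf_cj, card_map_of_injective (MulEquiv.injective _),
      card_map_of_injective (MulEquiv.injective _)]
    exact h.idx₂

theorem vertexQ_le_edge (h : Hyp M₁ M₂) {x y : Cfsg.CosetVertex M₁ M₂} (hxy : (Γ).Adj x y) :
    Qv x ≤ Te x y :=
  haveI := fin h x
  pCoreOf_le_sylIn (sylIn_edgeStab h hxy)

theorem vertexQ_le_edge' (h : Hyp M₁ M₂) {x y : Cfsg.CosetVertex M₁ M₂} (hxy : (Γ).Adj x y) :
    Qv x ≤ Te y x :=
  (vertexQ_le_edge h hxy).trans_eq (Amalgam.edgeStabilizer_comm x y)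

theorem card_edge (h : Hyp M₁ M₂) {x y : Cfsg.CosetVertex M₁ M₂} (hxy : (Γ).Adj x y) :
    Nat.card (Te x y) = 2 * Nat.card (Qv x) := by
  haveI : Fact (Nat.Prime 2) := ⟨Nat.prime_two⟩
  haveI := fin h x
  haveI : Finite (Qv x) :=
    Finite.of_injective _ (inclusion_injective (Amalgam.pCoreOf_le 2 (St x)))
  have hS := sylIn_edgeStab h hxy
  obtain ⟨S, hS'⟩ := hS.2
  obtain ⟨k, hk⟩ := IsPGroup.iff_card.1 (Amalgam.pCoreOf_isPGroup (p := 2) (St x))
  have h1 : Nat.card (Te x y) = 2 ^ (Nat.card (St x)).factorization 2 := by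
    rw [← S.card_eq_multiplicity, ← Nat.card_congr (subgroupOfEquivOfLe hS.le).toEquiv, ← hS']
  have h2 : (Nat.card (St x)).factorization 2 = k + 1 := by
    rw [card_stab h x, show Cfsg.vertexQ 2 x = Cfsg.pCoreOf 2 (St x) from rfl, hk,
      show 6 * 2 ^ k = 3 * 2 ^ (k + 1) by ring,
      Nat.factorization_mul (by norm_num) (by positivity), Finsupp.add_apply,
      Nat.factorization_eq_zero_of_not_dvd (by norm_num), Nat.prime_two.factorization_pow,
      Finsupp.single_eq_same, zero_add]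
  rw [h1, h2, show Cfsg.vertexQ 2 x = Cfsg.pCoreOf 2 (St x) from rfl, hk, pow_succ']

theorem relIndex_Q_edge (h : Hyp M₁ M₂) {x y : Cfsg.CosetVertex M₁ M₂} (hxy : (Γ).Adj x y) :
    (Qv x).relIndex (Te x y) = 2 := by
  haveI := fin h x
  haveI : Finite (Qv x) :=
    Finite.of_injective _ (inclusion_injective (Amalgam.pCoreOf_le 2 (St x)))
  have h1 := card_mul_index ((Qv x).subgroupOf (Te x y))
  rw [Nat.card_congr (subgroupOfEquivOfLe (vertexQ_le_edge h hxy)).toEquiv, card_edge h hxy,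
    mul_comm 2] at h1
  exact Nat.eq_of_mul_eq_mul_left Nat.card_pos h1

theorem relIndex_edge_stab (h : Hyp M₁ M₂) {x y : Cfsg.CosetVertex M₁ M₂} (hxy : (Γ).Adj x y) :
    (Te x y).relIndex (St x) = 3 := by
  haveI := fin h x
  haveI : Finite (Qv x) :=
    Finite.of_injective _ (inclusion_injective (Amalgam.pCoreOf_le 2 (St x)))
  have h1 := card_mul_index ((Te x y).subgroupOf (St x))
  rw [Nat.card_congr (subgroupOfEquivOfLe (sylIn_edgeStab h hxy).le).toEquiv, card_edge h hxy,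
    card_stab h x, show 6 * Nat.card (Qv x) = 2 * Nat.card (Qv x) * 3 by ring] at h1
  exact Nat.eq_of_mul_eq_mul_left (Nat.mul_pos two_pos Nat.card_pos) h1

theorem mul_mem_Q_iff (h : Hyp M₁ M₂) {x y : Cfsg.CosetVertex M₁ M₂} (hxy : (Γ).Adj x y)
    {a b : X} (ha : a ∈ Te x y) (hb : b ∈ Te x y) :
    a * b ∈ Qv x ↔ (a ∈ Qv x ↔ b ∈ Qv x) := by
  have := mul_mem_iff_of_index_two (relIndex_Q_edge h hxy) (a := ⟨a, ha⟩) (b := ⟨b, hb⟩)
  simpa [mem_subgroupOf] using this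

theorem not_edge_le_Q (h : Hyp M₁ M₂) {x y : Cfsg.CosetVertex M₁ M₂} (hxy : (Γ).Adj x y) :
    ¬ Te x y ≤ Qv x := fun hle => by
  have := relIndex_Q_edge h hxy
  rw [relIndex_eq_one.2 hle] at this
  exact absurd this (by norm_num)

theorem sup_eq_edge (h : Hyp M₁ M₂) {x y : Cfsg.CosetVertex M₁ M₂} (hxy : (Γ).Adj x y)
    {S : Subgroup X} (hS : S ≤ Te x y) (hn : ¬ S ≤ Qv x) : Qv x ⊔ S = Te x y := by
  refine le_antisymm (sup_le (vertexQ_le_edge h hxy) hS) fun t ht => ?_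
  obtain ⟨s, hs, hsQ⟩ := SetLike.not_le_iff_exists.1 hn
  by_cases htQ : t ∈ Qv x
  · exact mem_sup_left htQ
  · have h1 : t * s ∈ Qv x := (mul_mem_Q_iff h hxy ht (hS hs)).2 (iff_of_false htQ hsQ)
    have := mul_mem (mem_sup_left (T := S) h1) (mem_sup_right (inv_mem hs))
    rwa [mul_inv_cancel_right] at this

theorem sup_eq_stab (h : Hyp M₁ M₂) {x y : Cfsg.CosetVertex M₁ M₂} (hxy : (Γ).Adj x y)
    {K : Subgroup X} (hK : K ≤ St x) (hn : ¬ K ≤ Te x y) : Te x y ⊔ K = St x := by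
  have hle : Te x y ⊔ K ≤ St x := sup_le inf_le_left hK
  have h1 := relIndex_mul_relIndex (Te x y) (Te x y ⊔ K) (St x) le_sup_left hle
  rw [relIndex_edge_stab h hxy] at h1
  have hdvd : (Te x y).relIndex (Te x y ⊔ K) ∣ 3 := ⟨_, h1.symm⟩
  rcases (Nat.dvd_prime Nat.prime_three).1 hdvd with h2 | h2
  · exact absurd (le_sup_right.trans (relIndex_eq_one.1 h2)) hn
  · rw [h2] at h1
    exact le_antisymm hle
      (relIndex_eq_one.1 (Nat.eq_of_mul_eq_mul_left (by norm_num) (h1.trans (mul_one 3).symm)))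

theorem le_centralizer_of_gen (h : Hyp M₁ M₂) {x y : Cfsg.CosetVertex M₁ M₂} (hxy : (Γ).Adj x y)
    {K : Subgroup X} (hK : K ≤ St x) (hn : ¬ K ≤ Te x y) {S : Subgroup X}
    (h1 : Te x y ≤ centralizer (S : Set X)) (h2 : K ≤ centralizer (S : Set X)) :
    St x ≤ centralizer (S : Set X) :=
  (sup_eq_stab h hxy hK hn).symm.le.trans (sup_le h1 h2)

/-- A subgroup of an edge stabilizer normalized by both ends is trivial. -/
theorem bot_of_normalized (h : Hyp M₁ M₂) {x y : Cfsg.CosetVertex M₁ M₂} (hxy : (Γ).Adj x y)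
    {K : Subgroup X} (hK : K ≤ Te x y) (hx : St x ≤ normalizer (K : Set X))
    (hy : St y ≤ normalizer (K : Set X)) : K = ⊥ := by
  refine eq_bot_of_fixes_all h.pair.1.2.2.2
    (smul_eq_of_normalizer_transitive h.pair.1.1 hxy hK (fun a b ha hb => ?_) fun a b ha hb => ?_)
  · obtain ⟨g, hg, rfl⟩ := neighbours_transitive ha hb
    exact ⟨g, ⟨hx hg, hg⟩, rfl⟩
  · obtain ⟨g, hg, rfl⟩ := neighbours_transitive ha hb
    exact ⟨g, ⟨hy hg, hg⟩, rfl⟩

theorem bot_of_centralized (h : Hyp M₁ M₂) {x y : Cfsg.CosetVertex M₁ M₂} (hxy : (Γ).Adj x y)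
    {K : Subgroup X} (hK : K ≤ Te x y) (hx : St x ≤ centralizer (K : Set X))
    (hy : St y ≤ centralizer (K : Set X)) : K = ⊥ :=
  bot_of_normalized h hxy hK (hx.trans (centralizer_le_normalizer' K))
    (hy.trans (centralizer_le_normalizer' K))

theorem vertexQ_not_le (h : Hyp M₁ M₂) {x y : Cfsg.CosetVertex M₁ M₂} (hxy : (Γ).Adj x y) :
    ¬ Qv y ≤ Qv x := by
  intro hle
  haveI : Fact (Nat.Prime 2) := ⟨Nat.prime_two⟩
  haveI := fin h x
  haveI : Finite (Qv x) :=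
    Finite.of_injective _ (inclusion_injective (Amalgam.pCoreOf_le 2 (St x)))
  have hc : Nat.card (Qv x) = Nat.card (Qv y) := by
    have h1 := card_edge h hxy
    rw [Amalgam.edgeStabilizer_comm, card_edge h hxy.symm] at h1
    omega
  have he : Qv y = Qv x := eq_of_le_of_card_ge hle hc.le
  have hb : Qv x = ⊥ := bot_of_normalized h hxy (vertexQ_le_edge h hxy)
    (Amalgam.le_normalizer_pCoreOf 2 (St x)) (he ▸ Amalgam.le_normalizer_pCoreOf 2 (St y))
  exact vertexZ_ne_bot h.pair x (le_bot_iff.1 ((vertexZ_le_vertexQ h.pair x).trans hb.le))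

/-! ### Neighbours -/

theorem neighbourKernel_eq (h : Hyp M₁ M₂) (x : Cfsg.CosetVertex M₁ M₂) :
    Cfsg.neighbourKernel x = Qv x := by
  haveI : Fact (Nat.Prime 2) := ⟨Nat.prime_two⟩
  obtain ⟨y, hy⟩ := exists_adj x
  exact le_antisymm (Amalgam.le_pCoreOf (neighbourKernel_le x)
    (stabilizer_le_normalizer_neighbourKernel x)
    ((isPGroup_edge h hy).to_le (le_inf (neighbourKernel_le x) (neighbourKernel_le_of_adj hy))))
    (vertexQ_le_neighbourKernel h.pair x)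

theorem ncard_neighborSet (h : Hyp M₁ M₂) (x : Cfsg.CosetVertex M₁ M₂) :
    ((Γ).neighborSet x).ncard = 3 := by
  obtain ⟨y, hy⟩ := exists_adj x
  have e : MulAction.orbit (St x) y = (Γ).neighborSet x := by
    ext z
    refine ⟨?_, fun hz => ?_⟩
    · rintro ⟨g, rfl⟩
      show (Γ).Adj x ((g : X) • y)
      have := adj_smul (g : X) hy
      rwa [MulAction.mem_stabilizer_iff.1 g.2] at this
    · obtain ⟨g, hg, rfl⟩ := neighbours_transitive hy hz
      exact ⟨⟨g, hg⟩, rfl⟩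
  have e2 : MulAction.stabilizer (St x) y = (Te x y).subgroupOf (St x) := by
    ext g
    rw [MulAction.mem_stabilizer_iff, mem_subgroupOf]
    exact ⟨fun hh => ⟨g.2, hh⟩, fun hh => hh.2⟩
  rw [← e, ← Nat.card_coe_set_eq]
  refine (Nat.card_congr (MulAction.orbitEquivQuotientStabilizer (St x) y)).trans ?_
  rw [e2]
  exact relIndex_edge_stab h hy

theorem eq_or_eq_or_eq (h : Hyp M₁ M₂) {x a b c d : Cfsg.CosetVertex M₁ M₂} (ha : (Γ).Adj x a)
    (hb : (Γ).Adj x b) (hc : (Γ).Adj x c) (hab : a ≠ b) (hac : a ≠ c) (hbc : b ≠ c)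
    (hd : (Γ).Adj x d) : d = a ∨ d = b ∨ d = c := by
  have hsub : ({a, b, c} : Set _) ⊆ (Γ).neighborSet x := by
    rintro _ (rfl | rfl | rfl) <;> assumption
  have h3 : ({a, b, c} : Set (Cfsg.CosetVertex M₁ M₂)).ncard = 3 := by
    rw [Set.ncard_insert_of_notMem (by simp [hab, hac]) (Set.toFinite _), Set.ncard_pair hbc]
  have hfin : ((Γ).neighborSet x).Finite :=
    Set.finite_of_ncard_pos (by rw [ncard_neighborSet h x]; norm_num)
  have e := Set.eq_of_subset_of_ncard_le hsub (by rw [h3, ncard_neighborSet h x]) hfin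
  have hd' : d ∈ ({a, b, c} : Set _) := e ▸ hd
  simpa using hd'

theorem smul_ne_of_mem_edge (h : Hyp M₁ M₂) {x y z : Cfsg.CosetVertex M₁ M₂} (hxy : (Γ).Adj x y)
    (hxz : (Γ).Adj x z) (hzy : z ≠ y) {t : X} (ht : t ∈ Te x y) (htQ : t ∉ Qv x) :
    t • z ≠ z := by
  intro hfix
  refine htQ ?_
  rw [← neighbourKernel_eq h x, mem_neighbourKernel]
  refine ⟨ht.1, fun w hw => ?_⟩
  by_contra hne
  have hwy : w ≠ y := fun e => hne (e.symm ▸ ht.2)
  have htw : (Γ).Adj x (t • w) := by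
    have := adj_smul t hw
    rwa [MulAction.mem_stabilizer_iff.1 ht.1] at this
  have htwy : t • w ≠ y := fun e => hwy (smul_left_cancel t (e.trans ht.2.symm))
  rcases eq_or_eq_or_eq h hxy hw htw hwy.symm htwy.symm (Ne.symm hne) hxz with rfl | rfl | rfl
  · exact hzy rfl
  · exact hne hfix
  · exact hne (smul_left_cancel t hfix)

theorem edge_inf_edge_le (h : Hyp M₁ M₂) {x y z : Cfsg.CosetVertex M₁ M₂} (hxy : (Γ).Adj x y)
    (hxz : (Γ).Adj x z) (hzy : z ≠ y) {S : Subgroup X} (h1 : S ≤ Te x y) (h2 : S ≤ Te x z) :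
    S ≤ Qv x := fun t ht => by
  by_contra hQ
  exact smul_ne_of_mem_edge h hxy hxz hzy (h1 ht) hQ (h2 ht).2

theorem not_edge_le_edge (h : Hyp M₁ M₂) {x y z : Cfsg.CosetVertex M₁ M₂} (hxy : (Γ).Adj x y)
    (hxz : (Γ).Adj x z) (hzy : z ≠ y) : ¬ Te x z ≤ Te x y := fun hle =>
  not_edge_le_Q h hxz (edge_inf_edge_le h hxy hxz hzy hle le_rfl)

/-- A further pair of neighbours beside a given one. -/
theorem exists_others (h : Hyp M₁ M₂) {x y : Cfsg.CosetVertex M₁ M₂} (hxy : (Γ).Adj x y) :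
    ∃ z w, (Γ).Adj x z ∧ (Γ).Adj x w ∧ z ≠ y ∧ w ≠ y ∧ z ≠ w := by
  obtain ⟨t, ht, htQ⟩ := SetLike.not_le_iff_exists.1 (not_edge_le_Q h hxy)
  obtain ⟨z, hz, hne⟩ : ∃ z, (Γ).Adj x z ∧ t • z ≠ z := by
    by_contra hcon
    simp only [not_exists, not_and, not_not] at hcon
    refine htQ ?_
    rw [← neighbourKernel_eq h x, mem_neighbourKernel]
    exact ⟨ht.1, hcon⟩
  have htz : (Γ).Adj x (t • z) := by
    have := adj_smul t hz
    rwa [MulAction.mem_stabilizer_iff.1 ht.1] at this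
  have hzy : z ≠ y := fun e => hne (e.symm ▸ ht.2)
  exact ⟨z, t • z, hz, htz, hzy, fun e => hzy (smul_left_cancel t (e.trans ht.2.symm)),
    hne.symm⟩

theorem exists_other (h : Hyp M₁ M₂) {x y : Cfsg.CosetVertex M₁ M₂} (hxy : (Γ).Adj x y) :
    ∃ z, (Γ).Adj x z ∧ z ≠ y := by
  obtain ⟨z, -, hz, -, hzy, -⟩ := exists_others h hxy
  exact ⟨z, hz, hzy⟩

end Cfsg.Agent.Goldschmidt
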